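import Groth.Agent.MultiCross.Delta
import Groth.Agent.S7654
import Groth.Agent.BrnchLib.DimOneStrict
import Groth.Agent.CILib.Basic
import Groth.Agent.NagataLib.Scheme
import Groth.Agent.VarDim.Local

/-! Points with multicross completion: branches and δ-invariant. -/

noncomputable section

set_option linter.style.haveILetI false
set_option maxHeartbeats 1000000

universe u

open CategoryTheory AlgebraicGeometry IsLocalRing

namespace Groth.Agent.MultiCross

/-- A reduced Nagata local ring of dimension one with multicross completion. -/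
theorem branches_delta {K : Type u} [Field K] (A : Type u) [CommRing A] [IsLocalRing A] [_root_.IsReduced A]
    (hN : CAlg.IsNagata A) (hdim : ringKrullDim A = 1) {n : ℕ} (e : Curv2.cpl A ≃+* Cross K n) :
    Brnch.numBranches A = n ∧ Curv2.deltaInv A + 1 = n := by
  haveI : IsNoetherianRing A := hN.1
  rcases n with _ | m
  · exfalso
    have h1 : ringKrullDim (Curv2.cpl A) = 1 := (CILib.ringKrullDim_adicCompletion A).trans hdim
    have hI : crossI K 0 = ⊥ := Ideal.span_eq_bot.2 fun f ⟨i, _, _⟩ => i.elim0
    let q : MvPowerSeries (Fin 0) K ≃+* Cross K 0 :=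
      (RingEquiv.quotientBot _).symm.trans (Ideal.quotEquivOfEq hI.symm)
    have hc : Function.Bijective (MvPowerSeries.C (σ := Fin 0) (R := K)) := by
      refine ⟨MvPowerSeries.C_injective, fun f => ⟨MvPowerSeries.coeff 0 f, MvPowerSeries.ext fun d => ?_⟩⟩
      rw [Subsingleton.elim d 0, MvPowerSeries.coeff_zero_C]
    rw [ringKrullDim_eq_of_ringEquiv (e.trans ((RingEquiv.ofBijective _ hc).trans q).symm),
      ringKrullDim_eq_zero_of_isField (Field.toIsField K)] at h1
    exact zero_ne_one h1
  haveI hT : HenselianLocalRing (AdicCompletion (maximalIdeal A) A) := BrnchLib.henselianLocalRing_completion A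
  refine ⟨?_, ?_⟩
  · rw [← BrnchLib.numBranches_eq A hdim]
    haveI hl : IsLocalHom (algebraMap (AdicCompletion (maximalIdeal A) A) (AdicCompletion (maximalIdeal A) A)) :=
      ⟨fun _ hu => hu⟩
    haveI := Groth.Agent.Hensel.isHenselization_self (AdicCompletion (maximalIdeal A) A) hT
    rw [← BrnchLib.card_minimalPrimes_henselization (A := AdicCompletion (maximalIdeal A) A) (AdicCompletion (maximalIdeal A) A),
      ENat.card_coe_set_eq]
    exact encard_minimalPrimes (T := AdicCompletion (maximalIdeal A) A) e
  · rw [← (S7654.result A hN hdim).2.2, deltaInv_cross e, Nat.cast_add, Nat.cast_one]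

/-- Closed points of schemes of finite type with one-dimensional components have one-dimensional local rings. -/
theorem ringKrullDim_stalk_eq_one {k : Type u} [Field k] {X : Scheme.{u}} (f : X ⟶ Spec (CommRingCat.of k))
    [LocallyOfFiniteType f] (hequi : ∀ Z ∈ irreducibleComponents (X : Type u), topologicalKrullDim Z = 1)
    {x : X} (hx : IsClosed ({x} : Set X)) : ringKrullDim (X.presheaf.stalk x) = 1 := by
  obtain ⟨b, hb, ⟨η, hη, hηb⟩, hle⟩ := VarDim.exists_deg_add_stalk f x
  have h0 := (VarDim.closedPoint_iff_deg_eq_zero f x).1 hx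
  have key : ∀ y : X, ∃ ξ, ξ ⤳ y ∧ VarDim.deg f ξ = 1 := fun y => by
    obtain ⟨ξ, hξ⟩ := QuasiSober.sober (isIrreducible_irreducibleComponent (x := y)) isClosed_irreducibleComponent
    refine ⟨ξ, hξ.specializes mem_irreducibleComponent, ?_⟩
    have h := VarDim.topologicalKrullDim_closure_singleton f ξ
    rw [hξ, hequi _ (irreducibleComponent_mem_irreducibleComponents y)] at h
    exact_mod_cast h.symm
  obtain ⟨ξ, hξ, hd⟩ := key x
  obtain ⟨ξ', hξ', hd'⟩ := key η
  have h1 := hle ξ hξ
  have h2 := VarDim.deg_le_of_specializes f hξ'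
  obtain rfl : b = 1 := by omega
  exact_mod_cast hb

end Groth.Agent.MultiCross
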