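import Groth.Agent.MultiCross.Series
import Groth.Prelude.Def_Curv2

/-! The δ-invariant computed by a normal finite birational extension; that of the multicross ring. -/

noncomputable section

set_option linter.style.haveILetI false
set_option maxHeartbeats 1000000

universe u

namespace Groth.Agent.MultiCross

/-- The δ-invariant computed by a normal birational integral extension. -/
theorem deltaInv_eq_of_normal {A N : Type u} [CommRing A] [CommRing N] [Algebra A N]
    (hinj : Function.Injective (algebraMap A N)) (hint : Algebra.IsIntegral A N) [IsIntegrallyClosed N]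
    (t : A) (htA : ∀ z : A, t * z = 0 → z = 0) (htN : ∀ z : N, algebraMap A N t * z = 0 → z = 0)
    (hden : ∀ z : N, ∃ a : A, algebraMap A N a = t • z) :
    Curv2.deltaInv A = Module.length A (N ⧸ LinearMap.range (Algebra.linearMap A N)) := by
  let F := FractionRing A
  have ht : t ∈ nonZeroDivisors A := mem_nonZeroDivisors_iff_left.2 htA
  choose num hnum using hden
  have hnum' : ∀ z, algebraMap A N (num z) = algebraMap A N t * z := fun z => by rw [hnum, Algebra.smul_def]
  let σ : N → F := fun z => IsLocalization.mk' F (num z) ⟨t, ht⟩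
  have hσ : ∀ z, σ z * algebraMap A F t = algebraMap A F (num z) := fun z =>
    IsLocalization.mk'_spec F (num z) ⟨t, ht⟩
  have hu : IsUnit (algebraMap A F t) := IsLocalization.map_units F ⟨t, ht⟩
  have hσA : ∀ a, σ (algebraMap A N a) = algebraMap A F a := fun a => hu.mul_right_cancel (by
    rw [hσ, show num (algebraMap A N a) = t * a from hinj (by rw [hnum', map_mul]), map_mul, mul_comm])
  let σ' : N →ₐ[A] F :=
    { toFun := σ
      map_one' := by simpa using hσA 1
      map_mul' := fun z w => (hu.mul hu).mul_right_cancel (by
        rw [← mul_assoc, hσ, mul_mul_mul_comm, hσ, hσ, ← map_mul, ← map_mul]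
        refine congrArg _ (hinj ?_)
        rw [map_mul, map_mul, hnum', hnum', hnum']
        ring)
      map_zero' := by simpa using hσA 0
      map_add' := fun z w => hu.mul_right_cancel (by
        rw [hσ, add_mul, hσ, hσ, ← map_add]
        refine congrArg _ (hinj ?_)
        rw [map_add, hnum', hnum', hnum', mul_add])
      commutes' := hσA }
  have hσinj : Function.Injective σ' := fun z w h => by
    have h1 : num z = num w := IsFractionRing.injective A F (by rw [← hσ, ← hσ]; exact congrArg (· * _) h)
    refine sub_eq_zero.1 (htN _ ?_)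
    rw [mul_sub, ← hnum', ← hnum', h1, sub_self]
  have hnzd : ∀ s ∈ nonZeroDivisors A, algebraMap A N s ∈ nonZeroDivisors N := fun s hs =>
    mem_nonZeroDivisors_iff_left.2 fun z hz => by
      refine htN z ?_
      have h1 : num z = 0 := by
        refine (mem_nonZeroDivisors_iff_left.1 hs) _ (hinj ?_)
        rw [map_mul, hnum', map_zero, mul_left_comm, hz, mul_zero]
      rw [← hnum', h1, map_zero]
  let τ : F →ₐ[A] FractionRing N :=
    { IsLocalization.lift (M := nonZeroDivisors A) (g := algebraMap A (FractionRing N))
        (fun s => by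
          rw [IsScalarTower.algebraMap_apply A N (FractionRing N)]
          exact IsLocalization.map_units (FractionRing N) (⟨_, hnzd s s.2⟩ : nonZeroDivisors N)) with
      commutes' := fun a => IsLocalization.lift_eq _ a }
  have hτσ : ∀ z, τ (σ' z) = algebraMap N (FractionRing N) z := fun z => by
    have h := congrArg τ (hσ z)
    rw [map_mul, τ.commutes, τ.commutes, IsScalarTower.algebraMap_apply A N (FractionRing N),
      IsScalarTower.algebraMap_apply A N (FractionRing N), hnum', map_mul, mul_comm] at h
    exact (IsLocalization.map_units (FractionRing N)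
      (⟨_, hnzd t ht⟩ : nonZeroDivisors N)).mul_left_cancel h
  have hrange : ∀ z : F, z ∈ integralClosure A F ↔ z ∈ σ'.range := fun z => by
    refine ⟨fun hz => ?_, fun ⟨w, hw⟩ => hw ▸ (hint.isIntegral w).map σ'⟩
    obtain ⟨c, hc⟩ := IsIntegrallyClosedIn.algebraMap_eq_of_integral (R := N) ((hz.map τ).tower_top (A := N))
    refine ⟨c, ?_⟩
    obtain ⟨⟨a, s⟩, hz'⟩ := IsLocalization.surj (nonZeroDivisors A) z
    have hsu : IsUnit (algebraMap A F s) := IsLocalization.map_units F s
    have h2 : algebraMap A N s * c = algebraMap A N a := by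
      apply IsFractionRing.injective N (FractionRing N)
      rw [map_mul, hc, ← IsScalarTower.algebraMap_apply, ← IsScalarTower.algebraMap_apply, ← τ.commutes,
        ← map_mul, mul_comm, hz', τ.commutes]
    show σ' c = _
    refine hsu.mul_left_cancel ?_
    rw [← σ'.commutes, ← map_mul, h2, σ'.commutes, σ'.commutes, mul_comm, hz']
  let e : N ≃ₗ[A] integralClosure A F :=
    LinearEquiv.ofBijective (σ'.toLinearMap.codRestrict (Subalgebra.toSubmodule (integralClosure A F))
      fun z => (hrange _).2 ⟨z, rfl⟩)
      ⟨fun z w h => hσinj (congrArg Subtype.val h), fun y => by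
        obtain ⟨z, hz⟩ := (hrange _).1 y.2
        exact ⟨z, Subtype.ext hz⟩⟩
  refine (LinearEquiv.length_eq (Submodule.Quotient.equiv _ _ e ?_)).symm
  rw [← LinearMap.range_comp]
  congr 1
  exact LinearMap.ext fun a => Subtype.ext (σ'.commutes a)

/-- Fractions of a product of domains integral over it lie in it. -/
theorem exists_algebraMap_of_integral_pi {ι : Type} [Finite ι] {D : Type u} [CommRing D] [IsDomain D]
    [IsIntegrallyClosed D] {F : Type u} [CommRing F] [Algebra (ι → D) F] [IsFractionRing (ι → D) F]
    {G : Type u} [Field G] [Algebra D G] [IsFractionRing D G] {x : F} (hx : IsIntegral (ι → D) x) :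
    ∃ y, algebraMap (ι → D) F y = x := by
  classical
  obtain ⟨⟨a, s⟩, hz⟩ := IsLocalization.surj (nonZeroDivisors (ι → D)) x
  have hne : ∀ (s : nonZeroDivisors (ι → D)) (j : ι), s.1 j ≠ 0 := fun s j h => by
    have := (mem_nonZeroDivisors_iff_left.1 s.2) (Pi.single j 1) (funext fun i => by
      by_cases hij : i = j
      · subst hij; simp [h]
      · simp [hij])
    simpa using congrFun this j
  have key : ∀ j, ∃ c : D, c * s.1 j = a j := fun j => by
    let g : (ι → D) →+* G := (algebraMap D G).comp (Pi.evalRingHom _ j)
    have hg : ∀ y : nonZeroDivisors (ι → D), IsUnit (g y) := fun y =>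
      IsLocalization.map_units G (⟨_, mem_nonZeroDivisors_of_ne_zero (hne y j)⟩ : nonZeroDivisors D)
    have hφ : (IsLocalization.lift (S := F) hg).comp (algebraMap (ι → D) F) = g := IsLocalization.lift_comp hg
    have h1 : IsIntegral D (IsLocalization.lift hg x) :=
      IsIntegral.map_of_comp_eq (Pi.evalRingHom _ j) (IsLocalization.lift hg) hφ.symm hx
    obtain ⟨c, hc⟩ := IsIntegrallyClosed.algebraMap_eq_of_integral h1
    refine ⟨c, IsFractionRing.injective D G ?_⟩
    have h3 : g a = IsLocalization.lift hg x * g s.1 := by
      rw [← IsLocalization.lift_eq (S := F) hg a, ← IsLocalization.lift_eq (S := F) hg s.1, ← map_mul, hz]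
    rw [map_mul, hc]
    exact h3.symm
  choose c hc using key
  refine ⟨c, (IsLocalization.map_units F s).mul_right_cancel ?_⟩
  rw [hz, ← map_mul]
  exact congrArg _ (funext hc)

/-- A finite product of integrally closed domains is integrally closed. -/
theorem isIntegrallyClosed_pi {ι : Type} [Finite ι] {D : Type u} [CommRing D] [IsDomain D] [IsIntegrallyClosed D] :
    IsIntegrallyClosed (ι → D) :=
  (isIntegrallyClosed_iff (FractionRing (ι → D))).2 fun {_} hx =>
    exists_algebraMap_of_integral_pi (G := FractionRing D) hx

variable {K : Type u} [Field K]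

/-- The δ-invariant of the multicross ring with `m + 1` branches is `m`. -/
theorem deltaInv_cross {T : Type u} [CommRing T] {m : ℕ} (e : T ≃+* Cross K (m + 1)) :
    Curv2.deltaInv T = m := by
  classical
  let N := Fin (m + 1) → PowerSeries K
  haveI : IsIntegrallyClosed (PowerSeries K) := inferInstance
  haveI : IsIntegrallyClosed N := isIntegrallyClosed_pi
  let Φ : T →+* N := (toProd (K := K) (n := m + 1)).comp e.toRingHom
  letI := Φ.toAlgebra
  have hinj : Function.Injective (algebraMap T N) := toProd_injective.comp e.injective
  have hr : ∀ g : N, g ∈ LinearMap.range (Algebra.linearMap T N) ↔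
      ∀ i j, PowerSeries.constantCoeff (g i) = PowerSeries.constantCoeff (g j) := fun g => by
    rw [← mem_range_toProd]
    exact ⟨fun ⟨x, hx⟩ => ⟨e x, hx⟩, fun ⟨x, hx⟩ => ⟨e.symm x, by
      show toProd (e (e.symm x)) = g
      rw [e.apply_symm_apply, hx]⟩⟩
  have hfin : Module.Finite T N := by
    refine Module.Finite.of_surjective (Fintype.linearCombination T fun j => (Pi.single j 1 : N)) fun g => ?_
    choose f hf using fun j => branch_surjective (K := K) (n := m + 1) j (g j)
    refine ⟨fun j => e.symm (f j), ?_⟩
    rw [Fintype.linearCombination_apply]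
    funext i
    rw [Finset.sum_apply, Finset.sum_eq_single i]
    · show branch i (e (e.symm (f i))) * (Pi.single i (1 : PowerSeries K) : N) i = g i
      rw [e.apply_symm_apply, hf, Pi.single_eq_same, mul_one]
    · intro j _ hj
      show _ * (Pi.single j (1 : PowerSeries K) : N) i = 0
      rw [Pi.single_eq_of_ne (Ne.symm hj), mul_zero]
    · simp
  have hint : Algebra.IsIntegral T N := Algebra.IsIntegral.of_finite T N
  obtain ⟨x, hx⟩ : (fun _ => PowerSeries.X : N) ∈ Set.range (toProd (K := K) (n := m + 1)) :=
    (mem_range_toProd _).2 fun i j => rfl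
  have ht : algebraMap T N (e.symm x) = fun _ => PowerSeries.X := by
    show toProd (e (e.symm x)) = _
    rw [e.apply_symm_apply, hx]
  have htN : ∀ z : N, algebraMap T N (e.symm x) * z = 0 → z = 0 := fun z hz => funext fun j => by
    have := congrFun hz j
    rw [ht] at this
    exact (mul_eq_zero.1 this).resolve_left PowerSeries.X_ne_zero
  rw [deltaInv_eq_of_normal hinj hint (e.symm x) (fun z hz => hinj (by
      rw [map_zero]; exact htN _ (by rw [← map_mul, hz, map_zero]))) htN fun z => ?_]
  swap
  · refine LinearMap.mem_range.1 ((hr _).2 fun i j => ?_)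
    rw [Algebra.smul_def, ht]
    show PowerSeries.constantCoeff (PowerSeries.X * z i) = PowerSeries.constantCoeff (PowerSeries.X * z j)
    simp
  let χ : T →+* K := PowerSeries.constantCoeff.comp ((Pi.evalRingHom _ 0).comp Φ)
  letI : Module T (Fin m → K) := Module.compHom _ χ
  let ψ : N →ₗ[T] (Fin m → K) :=
    { toFun := fun g i => PowerSeries.constantCoeff (g i.succ) - PowerSeries.constantCoeff (g 0)
      map_add' := fun g h => funext fun i => by
        show PowerSeries.constantCoeff (g i.succ + h i.succ) - PowerSeries.constantCoeff (g 0 + h 0) =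
          (PowerSeries.constantCoeff (g i.succ) - PowerSeries.constantCoeff (g 0)) +
            (PowerSeries.constantCoeff (h i.succ) - PowerSeries.constantCoeff (h 0))
        rw [map_add, map_add]
        ring
      map_smul' := fun a g => funext fun i => by
        show PowerSeries.constantCoeff (Φ a i.succ * g i.succ) - PowerSeries.constantCoeff (Φ a 0 * g 0) =
          χ a * (PowerSeries.constantCoeff (g i.succ) - PowerSeries.constantCoeff (g 0))
        have h := (hr (Φ a)).1 ⟨a, rfl⟩ i.succ 0
        simp only [Pi.mul_apply, map_mul, χ, RingHom.coe_comp, Function.comp_apply, Pi.evalRingHom_apply, h]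
        ring }
  have hker : LinearMap.ker ψ = LinearMap.range (Algebra.linearMap T N) := by
    ext g
    rw [LinearMap.mem_ker, hr]
    constructor
    · intro h
      have h' : ∀ i, PowerSeries.constantCoeff (g i) = PowerSeries.constantCoeff (g 0) := fun i => by
        refine Fin.cases rfl (fun j => sub_eq_zero.1 (congrFun h j)) i
      exact fun i j => (h' i).trans (h' j).symm
    · exact fun h => funext fun i => sub_eq_zero.2 (h _ _)
  have hψ : Function.Surjective ψ := fun v => by
    refine ⟨fun i => Fin.cases 0 (fun j => PowerSeries.C (v j)) i, funext fun i => ?_⟩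
    show PowerSeries.constantCoeff (PowerSeries.C (v i)) - PowerSeries.constantCoeff 0 = v i
    simp
  rw [(Submodule.quotEquivOfEq _ _ hker.symm).length_eq, (ψ.quotKerEquivOfSurjective hψ).length_eq]
  letI := χ.toAlgebra
  haveI : IsScalarTower T K (Fin m → K) := IsScalarTower.of_algebraMap_smul fun a v => rfl
  rw [Module.length_eq_of_surjective (R := K) (S := T) fun c => ?_, Module.length_eq_finrank,
    Module.finrank_fin_fun]
  obtain ⟨f, hf⟩ := branch_surjective (K := K) (n := m + 1) 0 (PowerSeries.C c)
  refine ⟨e.symm f, ?_⟩
  show PowerSeries.constantCoeff (branch 0 (e (e.symm f))) = c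
  rw [e.apply_symm_apply, hf, PowerSeries.constantCoeff_C]

end Groth.Agent.MultiCross
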