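import Mathlib

/-! The multicross ring `k[[T_1, …, T_n]]/(T_i T_j)` inside `k[[t]]^n`. -/

noncomputable section

set_option linter.style.haveILetI false
set_option maxHeartbeats 1000000

universe u

open Finsupp (single)

namespace Groth.Agent.MultiCross

variable (K : Type u) [Field K] (n : ℕ)

/-- The ideal of products of distinct variables. -/
abbrev crossI : Ideal (MvPowerSeries (Fin n) K) :=
  Ideal.span {f : MvPowerSeries (Fin n) K | ∃ i j : Fin n, i ≠ j ∧ f = MvPowerSeries.X i * MvPowerSeries.X j}

/-- The multicross ring. -/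
abbrev Cross : Type u := MvPowerSeries (Fin n) K ⧸ crossI K n

variable {K n}

/-- Restriction to an axis. -/
def ax (j : Fin n) : MvPowerSeries (Fin n) K →+* PowerSeries K where
  toFun f := PowerSeries.mk fun m => MvPowerSeries.coeff (single j m) f
  map_one' := by
    ext m
    simp only [PowerSeries.coeff_mk, PowerSeries.coeff_one, MvPowerSeries.coeff_one, Finsupp.single_eq_zero]
  map_mul' f g := by
    classical
    ext m
    simp only [PowerSeries.coeff_mk, MvPowerSeries.coeff_mul, PowerSeries.coeff_mul,
      Finsupp.antidiagonal_single, Finset.sum_map]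
    rfl
  map_zero' := by ext m; simp
  map_add' f g := by ext m; simp

theorem coeff_ax (j : Fin n) (f : MvPowerSeries (Fin n) K) (m : ℕ) :
    PowerSeries.coeff m (ax j f) = MvPowerSeries.coeff (single j m) f := by
  show PowerSeries.coeff m (PowerSeries.mk fun m => MvPowerSeries.coeff (single j m) f) = _
  rw [PowerSeries.coeff_mk]

theorem ax_C (j : Fin n) (c : K) : ax j (MvPowerSeries.C c) = PowerSeries.C c := by
  classical
  ext m
  rw [coeff_ax, MvPowerSeries.coeff_C, PowerSeries.coeff_C]
  simp only [Finsupp.single_eq_zero]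

theorem ax_X_self (j : Fin n) : ax (K := K) j (MvPowerSeries.X j) = PowerSeries.X := by
  classical
  ext m
  rw [coeff_ax, MvPowerSeries.coeff_X, PowerSeries.coeff_X]
  simp only [(Finsupp.single_injective j).eq_iff]

theorem ax_X_other {i j : Fin n} (h : i ≠ j) : ax (K := K) j (MvPowerSeries.X i) = 0 := by
  classical
  ext m
  rw [coeff_ax, MvPowerSeries.coeff_X, if_neg, map_zero]
  intro e
  have h1 := DFunLike.congr_fun e i
  rw [Finsupp.single_eq_same, Finsupp.single_eq_of_ne h] at h1
  exact absurd h1 zero_ne_one

theorem crossI_le_ker (j : Fin n) : crossI K n ≤ RingHom.ker (ax (K := K) j) := by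
  rw [Ideal.span_le]
  rintro _ ⟨a, b, hab, rfl⟩
  rw [SetLike.mem_coe, RingHom.mem_ker, map_mul]
  by_cases ha : a = j
  · rw [ax_X_other (i := b) (ha ▸ hab.symm), mul_zero]
  · rw [ax_X_other ha, zero_mul]

/-- A series supported above finitely many exponents lies in an ideal containing their monomials. -/
theorem mem_of_cover (I : Ideal (MvPowerSeries (Fin n) K)) :
    ∀ (L : List (Fin n →₀ ℕ)), (∀ s ∈ L, MvPowerSeries.monomial s 1 ∈ I) → ∀ f : MvPowerSeries (Fin n) K,
      (∀ d, MvPowerSeries.coeff d f ≠ 0 → ∃ s ∈ L, s ≤ d) → f ∈ I := by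
  intro L
  induction L with
  | nil =>
    intro _ f hf
    have h0 : f = 0 := MvPowerSeries.ext fun d => by
      by_contra hd
      obtain ⟨s, hs, -⟩ := hf d (by simpa using hd)
      simp at hs
    rw [h0]; exact I.zero_mem
  | cons s L ih =>
    intro hL f hf
    let g : MvPowerSeries (Fin n) K := fun d => MvPowerSeries.coeff (d + s) f
    have key : ∀ d, MvPowerSeries.coeff d (f - MvPowerSeries.monomial s 1 * g) =
        if s ≤ d then 0 else MvPowerSeries.coeff d f := fun d => by
      classical
      rw [map_sub, MvPowerSeries.coeff_monomial_mul]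
      split_ifs with h
      · rw [one_mul]
        show MvPowerSeries.coeff d f - MvPowerSeries.coeff (d - s + s) f = 0
        rw [tsub_add_cancel_of_le h, sub_self]
      · rw [sub_zero]
    have h1 : f - MvPowerSeries.monomial s 1 * g ∈ I :=
      ih (fun t ht => hL t (List.mem_cons_of_mem _ ht)) _ fun d hd => by
        classical
        rw [key] at hd
        split_ifs at hd with h
        · exact absurd rfl hd
        · obtain ⟨t, ht, htd⟩ := hf d hd
          rcases List.mem_cons.1 ht with rfl | ht
          · exact absurd htd h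
          · exact ⟨t, ht, htd⟩
    simpa using I.add_mem h1 (I.mul_mem_right g (hL s (List.mem_cons_self ..)))

variable [NeZero n]

theorem mem_crossI {f : MvPowerSeries (Fin n) K} (hf : ∀ j, ax j f = 0) : f ∈ crossI K n := by
  classical
  let L : List (Fin n →₀ ℕ) := ((Finset.univ : Finset (Fin n × Fin n)).filter fun p => p.1 ≠ p.2).toList.map
    fun p => single p.1 1 + single p.2 1
  refine mem_of_cover _ L (fun s hs => ?_) f fun d hd => ?_
  · obtain ⟨p, hp, rfl⟩ := List.mem_map.1 hs
    refine Ideal.subset_span ⟨p.1, p.2, (Finset.mem_filter.1 (Finset.mem_toList.1 hp)).2, ?_⟩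
    rw [MvPowerSeries.X_def, MvPowerSeries.X_def, MvPowerSeries.monomial_mul_monomial, one_mul]
  · by_contra hcon
    have hsingle : ∀ a : Fin n, d a ≠ 0 → d = single a (d a) := fun a ha => by
      ext b
      by_cases hab : b = a
      · subst hab; rw [Finsupp.single_eq_same]
      · rw [Finsupp.single_eq_of_ne hab]
        by_contra hb
        refine hcon ⟨_, List.mem_map.2 ⟨(a, b), Finset.mem_toList.2 (Finset.mem_filter.2 ⟨Finset.mem_univ _,
          fun e => hab e.symm⟩), rfl⟩, fun c => ?_⟩
        rw [Finsupp.add_apply]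
        by_cases hca : c = a
        · subst hca
          rw [Finsupp.single_eq_same, Finsupp.single_eq_of_ne (fun e => hab e.symm)]
          omega
        · rw [Finsupp.single_eq_of_ne hca, zero_add]
          by_cases hcb : c = b
          · subst hcb; rw [Finsupp.single_eq_same]; omega
          · rw [Finsupp.single_eq_of_ne hcb]; exact Nat.zero_le _
    by_cases hd0 : d = 0
    · subst hd0
      have := congrArg (PowerSeries.coeff 0) (hf 0)
      rw [coeff_ax, Finsupp.single_zero, map_zero] at this
      exact hd this
    · obtain ⟨a, ha⟩ : ∃ a, d a ≠ 0 := by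
        by_contra h
        push Not at h
        exact hd0 (Finsupp.ext h)
      have := congrArg (PowerSeries.coeff (d a)) (hf a)
      rw [coeff_ax, ← hsingle a ha, map_zero] at this
      exact hd this

theorem exists_ax_eq (g : Fin n → PowerSeries K)
    (hg : ∀ i j, PowerSeries.constantCoeff (g i) = PowerSeries.constantCoeff (g j)) :
    ∃ f : MvPowerSeries (Fin n) K, ∀ j, ax j f = g j := by
  classical
  let f : MvPowerSeries (Fin n) K := fun d =>
    if h : ∃ j, d = single j (d j) then PowerSeries.coeff (d h.choose) (g h.choose) else 0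
  refine ⟨f, fun j => PowerSeries.ext fun m => ?_⟩
  rw [coeff_ax]
  show f (single j m) = _
  have h : ∃ i, single j m = single i ((single j m) i) := ⟨j, by rw [Finsupp.single_eq_same]⟩
  simp only [f, dif_pos h]
  have hs := h.choose_spec
  by_cases hij : h.choose = j
  · rw [hij, Finsupp.single_eq_same]
  · have hm : m = 0 := by
      have := DFunLike.congr_fun hs j
      rwa [Finsupp.single_eq_same, Finsupp.single_eq_of_ne (Ne.symm hij)] at this
    subst hm
    rw [show (single j 0 : Fin n →₀ ℕ) h.choose = 0 by rw [Finsupp.single_eq_of_ne hij]]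
    simp only [PowerSeries.coeff_zero_eq_constantCoeff]
    exact hg _ _

/-- The branches of the multicross ring. -/
def branch (j : Fin n) : Cross K n →+* PowerSeries K :=
  Ideal.Quotient.lift (crossI K n) (ax j) fun _ hx => crossI_le_ker j hx

/-- The embedding in the product of the branches. -/
def toProd : Cross K n →+* (Fin n → PowerSeries K) := RingHom.pi branch

theorem toProd_injective : Function.Injective (toProd (K := K) (n := n)) := by
  rw [injective_iff_map_eq_zero]
  intro x hx
  obtain ⟨f, rfl⟩ := Ideal.Quotient.mk_surjective x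
  exact Ideal.Quotient.eq_zero_iff_mem.2 (mem_crossI fun j => congrFun hx j)

theorem mem_range_toProd (g : Fin n → PowerSeries K) :
    g ∈ Set.range (toProd (K := K) (n := n)) ↔
      ∀ i j, PowerSeries.constantCoeff (g i) = PowerSeries.constantCoeff (g j) := by
  constructor
  · rintro ⟨x, rfl⟩ i j
    obtain ⟨f, rfl⟩ := Ideal.Quotient.mk_surjective x
    show PowerSeries.constantCoeff (ax i f) = PowerSeries.constantCoeff (ax j f)
    simp only [← PowerSeries.coeff_zero_eq_constantCoeff_apply, coeff_ax, Finsupp.single_zero]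
  · intro h
    obtain ⟨f, hf⟩ := exists_ax_eq g h
    exact ⟨Ideal.Quotient.mk _ f, funext hf⟩

theorem branch_surjective (j : Fin n) : Function.Surjective (branch (K := K) j) := fun g => by
  classical
  obtain ⟨f, hf⟩ := exists_ax_eq
    (fun i => if i = j then g else PowerSeries.C (PowerSeries.constantCoeff g)) fun i i' => by
      split_ifs <;> simp
  exact ⟨Ideal.Quotient.mk _ f, (hf j).trans (if_pos rfl)⟩

/-- The multicross ring has `n` minimal primes. -/
theorem encard_minimalPrimes {T : Type u} [CommRing T] (e : T ≃+* Cross K n) :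
    (minimalPrimes T).encard = n := by
  let φ : Fin n → T →+* PowerSeries K := fun j => (branch j).comp e.toRingHom
  have hX : ∀ i j, i ≠ j → e.symm (Ideal.Quotient.mk _ (MvPowerSeries.X j)) ∈ RingHom.ker (φ i) ∧
      e.symm (Ideal.Quotient.mk _ (MvPowerSeries.X j)) ∉ RingHom.ker (φ j) := fun i j hij => by
    simp only [RingHom.mem_ker, φ, RingHom.coe_comp, Function.comp_apply, RingEquiv.toRingHom_eq_coe,
      RingEquiv.coe_toRingHom, RingEquiv.apply_symm_apply]
    refine ⟨ax_X_other (Ne.symm hij), ?_⟩
    show ax j (MvPowerSeries.X j) ≠ 0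
    rw [ax_X_self]
    exact PowerSeries.X_ne_zero
  have hne : ∀ i j, RingHom.ker (φ i) ≤ RingHom.ker (φ j) → i = j := fun i j hle => by
    by_contra hij
    exact (hX i j hij).2 (hle (hX i j hij).1)
  have hP : ∀ P : Ideal T, P.IsPrime → ∃ j, RingHom.ker (φ j) ≤ P := fun P hP => by
    by_contra! hcon
    choose a ha hb using fun j => Set.not_subset.1 (hcon j)
    refine absurd (P.zero_mem) ?_
    have h0 : ∏ j, a j = 0 := e.injective (toProd_injective (funext fun j => by
      rw [map_zero, map_zero, map_prod, map_prod, Pi.zero_apply, Finset.prod_apply]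
      exact Finset.prod_eq_zero (Finset.mem_univ j) (ha j)))
    rw [← h0]
    intro h
    obtain ⟨j, -, hj⟩ := hP.prod_mem_iff.1 h
    exact hb j hj
  have hmin : minimalPrimes T = Set.range fun j => RingHom.ker (φ j) := by
    ext P
    constructor
    · intro h
      obtain ⟨j, hj⟩ := hP P h.1.1
      exact ⟨j, le_antisymm hj (h.2 ⟨RingHom.ker_isPrime _, bot_le⟩ hj)⟩
    · rintro ⟨j, rfl⟩
      refine ⟨⟨RingHom.ker_isPrime _, bot_le⟩, fun Q hQ hle => ?_⟩
      obtain ⟨i, hi⟩ := hP Q hQ.1
      obtain rfl := hne i j (hi.trans hle)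
      exact hi
  rw [hmin, ← Set.image_univ, Set.InjOn.encard_image fun i _ j _ h => hne i j h.le]
  simp

end Groth.Agent.MultiCross
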