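import Groth.Agent.MultiCross.Wedge

/-! The tangent space of the multicross ring. -/

noncomputable section

set_option linter.style.haveILetI false
set_option maxHeartbeats 1000000

universe u

open IsLocalRing

namespace Groth.Agent.MultiCross

theorem spanFinrank_eq_of_cross {K : Type u} [Field K] {B : Type u} [CommRing B] [IsLocalRing B]
    [IsNoetherianRing B] {n : ℕ} (φ : B →+* (Fin n → PowerSeries K)) (hinj : Function.Injective φ)
    (hrange : Set.range φ = {f : Fin n → PowerSeries K | ∀ i j : Fin n,
      PowerSeries.constantCoeff (f i) = PowerSeries.constantCoeff (f j)}) :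
    (maximalIdeal B).spanFinrank = n := by
  classical
  have hmemr : ∀ g : Fin n → PowerSeries K, (∀ i j, PowerSeries.constantCoeff (g i) =
      PowerSeries.constantCoeff (g j)) → ∃ b, φ b = g := fun g hg => by
    have h : g ∈ Set.range φ := by rw [hrange]; exact hg
    exact h
  have hmax : ∀ x : B, x ∈ maximalIdeal B ↔ ∀ i, PowerSeries.constantCoeff (φ x i) = 0 := fun x => by
    have hx : ∀ i j, PowerSeries.constantCoeff (φ x i) = PowerSeries.constantCoeff (φ x j) := by
      have h : φ x ∈ Set.range φ := ⟨x, rfl⟩
      rw [hrange] at h
      exact h
    rw [mem_maximalIdeal, mem_nonunits_iff]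
    constructor
    · intro h i
      by_contra hc
      have hcj : ∀ j, PowerSeries.constantCoeff (φ x j) ≠ 0 := fun j => by rwa [← hx i j]
      obtain ⟨y, hy⟩ := hmemr (fun j => (φ x j)⁻¹) fun a b => by
        simp only [PowerSeries.constantCoeff_inv, hx a b]
      refine h (IsUnit.of_mul_eq_one y (hinj (funext fun j => ?_)))
      rw [map_mul, map_one, Pi.mul_apply, hy, Pi.one_apply]
      exact PowerSeries.mul_inv_cancel _ (hcj j)
    · intro h hu
      rcases n with _ | m
      · exact one_ne_zero (hinj (funext fun i => i.elim0) : (1 : B) = 0)
      · have h1 := ((hu.map φ).map (Pi.evalRingHom _ (0 : Fin (m + 1)))).map PowerSeries.constantCoeff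
        rw [isUnit_iff_ne_zero] at h1
        exact h1 (h 0)
  choose ξ hξ using fun j : Fin n => hmemr (fun i => if i = j then PowerSeries.X else 0) fun a b => by
    simp only [apply_ite PowerSeries.constantCoeff, PowerSeries.constantCoeff_X, map_zero, ite_self]
  have hspan : maximalIdeal B = Ideal.span (Set.range ξ) := by
    refine le_antisymm (fun x hx => ?_) (Ideal.span_le.2 ?_)
    · choose g hg using fun i => PowerSeries.X_dvd_iff.2 ((hmax x).1 hx i)
      choose v hv using fun j => hmemr (fun i => if i = j then g j else PowerSeries.C (PowerSeries.constantCoeff (g j)))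
        fun a b => by simp only [apply_ite PowerSeries.constantCoeff, PowerSeries.constantCoeff_C, ite_self]
      have hxe : x = ∑ j, v j * ξ j := hinj (funext fun i => by
        rw [map_sum, Finset.sum_apply, Finset.sum_eq_single i]
        · rw [map_mul, Pi.mul_apply, hv, hξ]
          simp only [if_pos rfl, if_true, hg, mul_comm]
        · intro j _ hj
          rw [map_mul, Pi.mul_apply, hξ]
          simp only [if_neg (Ne.symm hj), mul_zero]
        · intro h; exact absurd (Finset.mem_univ i) h)
      rw [hxe]
      exact Submodule.sum_mem _ fun j _ => Ideal.mul_mem_left _ _ (Ideal.subset_span ⟨j, rfl⟩)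
    · rintro _ ⟨j, rfl⟩
      refine (hmax _).2 fun i => ?_
      rw [hξ]
      simp only [apply_ite PowerSeries.constantCoeff, PowerSeries.constantCoeff_X, map_zero, ite_self]
  refine le_antisymm ?_ ?_
  · rw [hspan]
    refine le_trans (Submodule.spanFinrank_span_le_ncard_of_finite (Set.finite_range ξ)) ?_
    rw [← Set.image_univ]
    exact (Set.ncard_image_le Set.finite_univ).trans (by simp)
  · rcases n with _ | m
    · exact Nat.zero_le _
    have hfg : (maximalIdeal B).FG := IsNoetherian.noetherian _
    let D : B → (Fin (m + 1) → K) := fun x i => PowerSeries.coeff 1 (φ x i)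
    let S := Submodule.span K (D '' (Submodule.generators (maximalIdeal B)))
    have key : ∀ x ∈ maximalIdeal B, D x ∈ S := fun x hx => by
      rw [← Submodule.span_generators (maximalIdeal B)] at hx
      induction hx using Submodule.span_induction with
      | mem y hy => exact Submodule.subset_span ⟨y, hy, rfl⟩
      | zero =>
        have h0 : D 0 = 0 := funext fun i => by simp [D]
        rw [h0]; exact S.zero_mem
      | add y z _ _ hy hz =>
        have h0 : D (y + z) = D y + D z := funext fun i => by simp [D]
        rw [h0]; exact S.add_mem hy hz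
      | smul b y hy' hy =>
        rw [Submodule.span_generators] at hy'
        have h0 : D (b • y) = PowerSeries.constantCoeff (φ b 0) • D y := funext fun i => by
          have hb : PowerSeries.constantCoeff (φ b i) = PowerSeries.constantCoeff (φ b 0) := by
            have h : φ b ∈ Set.range φ := ⟨b, rfl⟩
            rw [hrange] at h
            exact h i 0
          simp only [D, smul_eq_mul, map_mul, Pi.mul_apply, Pi.smul_apply, PowerSeries.coeff_mul,
            Finset.Nat.sum_antidiagonal_succ, Finset.Nat.antidiagonal_zero, Finset.sum_singleton,
            PowerSeries.coeff_zero_eq_constantCoeff, (hmax y).1 hy' i, mul_zero, zero_add, add_zero, hb]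
        rw [h0]; exact S.smul_mem _ hy
    have htop : S = ⊤ := by
      refine top_unique fun v _ => ?_
      have hv : v = ∑ j, v j • D (ξ j) := funext fun i => by
        simp only [D, Finset.sum_apply, Pi.smul_apply, hξ, apply_ite (PowerSeries.coeff (R := K) 1),
          PowerSeries.coeff_one_X, map_zero, smul_eq_mul, mul_ite, mul_one, mul_zero, Finset.sum_ite_eq,
          Finset.mem_univ, if_true]
      rw [hv]
      exact Submodule.sum_mem _ fun j _ => S.smul_mem _ (key _ (by rw [hspan]; exact Ideal.subset_span ⟨j, rfl⟩))
    have h1 : Module.finrank K (Fin (m + 1) → K) ≤ (maximalIdeal B).spanFinrank := by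
      haveI := ((Submodule.FG.finite_generators hfg).image D).fintype
      rw [← finrank_top K (Fin (m + 1) → K), ← htop, ← Submodule.FG.generators_ncard hfg]
      refine (finrank_span_le_card _).trans ?_
      rw [← Set.ncard_eq_toFinset_card']
      exact Set.ncard_image_le (Submodule.FG.finite_generators hfg)
    simpa using h1

/-- The tangent space of a ring whose completion is the multicross ring. -/
theorem finrank_cotangent_eq {K : Type u} [Field K] (A : Type u) [CommRing A] [IsLocalRing A]
    [IsNoetherianRing A] {n : ℕ} (φ : AdicCompletion (maximalIdeal A) A →+* (Fin n → PowerSeries K))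
    (hinj : Function.Injective φ)
    (hrange : Set.range φ = {f : Fin n → PowerSeries K | ∀ i j : Fin n,
      PowerSeries.constantCoeff (f i) = PowerSeries.constantCoeff (f j)}) :
    Module.finrank (ResidueField A) (CotangentSpace A) = n := by
  haveI : IsNoetherianRing (AdicCompletion (maximalIdeal A) A) := FormalFib6.isNoetherianRing_adicCompletion A _
  rw [← IsLocalRing.spanFinrank_maximalIdeal_eq_finrank_cotangentSpace, ← AdicCompletion.spanFinrank_maximalIdeal_eq]
  exact spanFinrank_eq_of_cross φ hinj hrange

end Groth.Agent.MultiCross
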