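import Groth.Prelude.Def_Curv2
import Groth.Prelude.Def_Brnch
import Groth.Agent.S12463
import Groth.Agent.S7652
import Groth.Agent.S7654
import Groth.Agent.S0499
import Groth.Agent.S12630
import Groth.Agent.S2647
import Groth.Agent.S9241
import Groth.Agent.Adic7.Lift
import Groth.Agent.CplFib6.ComplQuot
import Groth.Agent.CompleteNagata.Complete
import Groth.Agent.BrnchLib.Compl
import Groth.Agent.CILib.Basic
import Groth.Agent.FormalFib6.Cplt
import Groth.Agent.DeltaLib.BaseChange

/-! Completions of wedges of smooth branches. -/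

noncomputable section

set_option backward.isDefEq.respectTransparency false
set_option backward.isDefEq.respectTransparency.types false
set_option linter.style.haveILetI false
set_option maxHeartbeats 1000000

universe u

open IsLocalRing

namespace Groth.Agent.MultiCross

theorem isSepClosed_of_ringEquiv {k k' : Type u} [Field k] [Field k'] [IsSepClosed k]
    (e : k ≃+* k') : IsSepClosed k' :=
  IsSepClosed.of_exists_root _ fun p _ hp hs => by
    have hd : (p.map e.symm.toRingHom).degree ≠ 0 := by
      rw [Polynomial.degree_map]; exact (Polynomial.degree_pos_of_irreducible hp).ne'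
    obtain ⟨x, hx⟩ := IsSepClosed.exists_root (p.map e.symm.toRingHom) hd hs.map
    refine ⟨e x, e.symm.injective ?_⟩
    have h2 : p.eval₂ e.symm.toRingHom (e.symm (e x)) = 0 := by
      rw [e.symm_apply_apply, ← Polynomial.eval_map]; exact hx
    rw [map_zero, ← h2]
    exact (Polynomial.eval₂_at_apply e.symm.toRingHom (e x)).symm

/-- In a finite product of local rings, a maximal ideal is cut out by an idempotent. -/
theorem exists_idem {N : Type u} [CommRing N] {ι : Type u} [Fintype ι] {A : ι → Type u}
    [∀ i, CommRing (A i)] (hA : ∀ i, IsLocalRing (A i)) (e : N ≃+* ∀ i, A i) (m : Ideal N) [m.IsMaximal] :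
    ∃ ε : N, ε * ε = ε ∧ ε ∉ m ∧ ∀ m' : Ideal N, m'.IsMaximal → m' ≠ m → ε ∈ m' := by
  classical
  let δ : ι → N := fun i => e.symm (Pi.single i 1)
  obtain ⟨j, hj⟩ : ∃ j, δ j ∉ m := by
    by_contra! hcon
    refine (Ideal.ne_top_iff_one m).1 (Ideal.IsMaximal.ne_top ‹_›) ?_
    have h1 : (1 : N) = ∑ i, δ i := by
      rw [← map_sum, Finset.univ_sum_single]; exact (map_one e.symm).symm
    rw [h1]
    exact Submodule.sum_mem _ fun i _ => hcon i
  let M : Ideal N := (maximalIdeal (A j)).comap ((Pi.evalRingHom A j).comp e.toRingHom)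
  haveI := hA j
  haveI hM : M.IsMaximal := Ideal.comap_isMaximal_of_surjective _ fun a =>
    ⟨e.symm (Pi.single j a), by simp⟩
  have key : ∀ m' : Ideal N, m'.IsMaximal → δ j ∉ m' → m' = M := fun m' hm' hδ => by
    refine (hM.eq_of_le hm'.ne_top fun x hx => ?_).symm
    by_contra hx'
    obtain ⟨y, i, hi, hy⟩ := hm'.exists_inv hx'
    have hu : IsUnit (e i j) := by
      by_contra hn
      have hx2 : e x j ∈ maximalIdeal (A j) := hx
      have h2 := (maximalIdeal (A j)).add_mem (Ideal.mul_mem_left _ (e y j) hx2) ((mem_maximalIdeal (e i j)).2 hn)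
      have h3 : e y j * e x j + e i j = 1 := by
        rw [← Pi.mul_apply, ← map_mul, ← Pi.add_apply, ← map_add, hy, map_one, Pi.one_apply]
      exact (Ideal.ne_top_iff_one _).1 (maximalIdeal.isMaximal (A j)).ne_top (h3 ▸ h2)
    obtain ⟨c, hc⟩ := hu.exists_left_inv
    refine hδ ?_
    have h4 : δ j = e.symm (Pi.single j c) * i := e.injective (funext fun l => by
      rw [map_mul, Pi.mul_apply, e.apply_symm_apply, e.apply_symm_apply]
      by_cases hl : l = j
      · subst hl; rw [Pi.single_eq_same, Pi.single_eq_same, hc]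
      · rw [Pi.single_eq_of_ne hl, Pi.single_eq_of_ne hl, zero_mul])
    rw [h4]
    exact m'.mul_mem_left _ hi
  refine ⟨δ j, ?_, hj, fun m' hm' hne => ?_⟩
  · rw [← map_mul, ← Pi.single_mul, one_mul]
  · by_contra h
    exact hne ((key m' hm' h).trans (key m ‹_› hj).symm)

/-- A branch of a complete ring: the parametrization. -/
theorem exists_psMap (k : Type u) [Field k] {T : Type u} [CommRing T] [IsLocalRing T] [IsNoetherianRing T]
    [IsAdicComplete (maximalIdeal T) T] [Algebra k T] (hk : Function.Surjective (algebraMap k (ResidueField T)))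
    {N : Type u} [CommRing N] [Algebra T N] [Module.Finite T N] (m : Ideal N) [m.IsMaximal]
    (hcomap : m.comap (algebraMap T N) = maximalIdeal T)
    (hdvr : ∃ _ : IsDomain (Localization.AtPrime m), IsDiscreteValuationRing (Localization.AtPrime m))
    (hres : Function.Surjective (⇑(residue (Localization.AtPrime m)) ∘
      ⇑(algebraMap N (Localization.AtPrime m)) ∘ ⇑(algebraMap T N)))
    (u : T) (hum : u ∈ maximalIdeal T) (hu : algebraMap N (Localization.AtPrime m) (algebraMap T N u) ≠ 0)
    (ε : N) (hε : ε * ε = ε) (hεm : ε ∉ m) (hε' : ∀ m' : Ideal N, m'.IsMaximal → m' ≠ m → ε ∈ m') :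
    ∃ ψ : N →+* PowerSeries k, Function.Surjective ψ ∧
      (∀ z, ψ z = 0 → ∃ c ∉ m, c * z = 0) ∧
      (∀ c : k, ψ (algebraMap T N (algebraMap k T c)) = PowerSeries.C c) ∧
      (∀ z, PowerSeries.constantCoeff (ψ z) = 0 ↔ z ∈ m) := by
  obtain ⟨hdom, hd⟩ := hdvr
  let L := Localization.AtPrime m
  haveI : IsDomain L := hdom
  haveI : IsDiscreteValuationRing L := hd
  have hεu : algebraMap N L ε = 1 := by
    have h1 : IsUnit (algebraMap N L ε) := IsLocalization.map_units L (⟨ε, hεm⟩ : m.primeCompl)
    exact h1.mul_left_cancel (by rw [← map_mul, hε, mul_one])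
  -- the ring maps onto the localization
  have hsurj : Function.Surjective (algebraMap N L) := fun w => by
    obtain ⟨⟨a, s⟩, hs⟩ := IsLocalization.surj m.primeCompl w
    have htop : Ideal.span {(s : N)} ⊔ Ideal.span {1 - ε} = ⊤ := by
      by_contra hne
      obtain ⟨m', hm', hle⟩ := Ideal.exists_le_maximal _ hne
      have hsm : (s : N) ∈ m' := hle (Submodule.mem_sup_left (Ideal.mem_span_singleton_self _))
      have hem : 1 - ε ∈ m' := hle (Submodule.mem_sup_right (Ideal.mem_span_singleton_self _))
      by_cases hmm : m' = m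
      · exact s.2 (hmm ▸ hsm)
      · refine (Ideal.ne_top_iff_one m').1 hm'.ne_top ?_
        simpa using m'.add_mem hem (hε' m' hm' hmm)
    obtain ⟨x, hx, y, hy, hxy⟩ := Submodule.mem_sup.1 ((Ideal.eq_top_iff_one _).1 htop)
    obtain ⟨v, rfl⟩ := Ideal.mem_span_singleton'.1 hx
    obtain ⟨c, rfl⟩ := Ideal.mem_span_singleton'.1 hy
    refine ⟨a * v, (IsLocalization.map_units L s).mul_right_cancel ?_⟩
    have h2 := congrArg (algebraMap N L) hxy
    simp only [map_add, map_mul, map_sub, map_one, hεu, sub_self, mul_zero, add_zero] at h2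
    rw [show w * algebraMap N L s = algebraMap N L a from hs, map_mul, mul_assoc, h2, mul_one]
  haveI : Module.Finite T L :=
    Module.Finite.of_surjective (IsScalarTower.toAlgHom T N L).toLinearMap hsurj
  haveI : IsAdicComplete (maximalIdeal T) L := Adic7.isAdicComplete_of_finite _ _
  haveI : IsAdicComplete ((maximalIdeal T).map (algebraMap T L)) L :=
    (IsAdicComplete.map_algebraMap_iff (S := L) (maximalIdeal T) L).mpr ‹_›
  have hle : (maximalIdeal T).map (algebraMap T L) ≤ maximalIdeal L := by
    rw [Ideal.map_le_iff_le_comap]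
    intro a ha
    show algebraMap T L a ∈ maximalIdeal L
    rw [IsScalarTower.algebraMap_apply T N L]
    exact (IsLocalization.AtPrime.to_map_mem_maximal_iff L m _).2 (hcomap.symm.le ha)
  have hne : (maximalIdeal T).map (algebraMap T L) ≠ ⊥ := fun h => hu (by
    have h3 := Ideal.mem_map_of_mem (algebraMap T L) hum
    rw [h, Ideal.mem_bot, IsScalarTower.algebraMap_apply T N L] at h3
    exact h3)
  obtain ⟨π, hπ⟩ := IsDiscreteValuationRing.exists_irreducible L
  obtain ⟨a, ha⟩ := IsDiscreteValuationRing.ideal_eq_span_pow_irreducible hne hπ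
  haveI : IsAdicComplete (maximalIdeal L) L :=
    CplFib6.isAdicComplete_of_sandwich (maximalIdeal L) ((maximalIdeal T).map (algebraMap T L)) (N := a)
      (le_of_eq (by rw [hπ.maximalIdeal_eq, Ideal.span_singleton_pow, ha])) hle
  letI : Algebra k L := ((algebraMap T L).comp (algebraMap k T)).toAlgebra
  have hkL : Function.Bijective (algebraMap k (ResidueField L)) := by
    refine ⟨(algebraMap k (ResidueField L)).injective, fun z => ?_⟩
    obtain ⟨t, rfl⟩ := hres z
    obtain ⟨c, hc⟩ := hk (residue T t)
    refine ⟨c, Ideal.Quotient.eq.2 ?_⟩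
    show algebraMap T L (algebraMap k T c) - algebraMap N L (algebraMap T N t) ∈ maximalIdeal L
    rw [← IsScalarTower.algebraMap_apply T N L, ← map_sub]
    exact hle (Ideal.mem_map_of_mem _ (Ideal.Quotient.eq.1 hc))
  obtain ⟨E, hE⟩ := S12630.result k L hkL π hπ.maximalIdeal_eq
  refine ⟨E.symm.toAlgHom.toRingHom.comp (algebraMap N L), fun f => ?_, fun z hz => ?_, fun c => ?_, fun z => ?_⟩
  · obtain ⟨z, hz⟩ := hsurj (E f)
    exact ⟨z, show E.symm (algebraMap N L z) = f by rw [hz, E.symm_apply_apply]⟩
  · have h4 : algebraMap N L z = 0 := E.symm.injective (hz.trans (map_zero _).symm)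
    obtain ⟨⟨c, hc⟩, hcz⟩ := (IsLocalization.map_eq_zero_iff m.primeCompl L z).1 h4
    exact ⟨c, hc, hcz⟩
  · show E.symm (algebraMap N L (algebraMap T N (algebraMap k T c))) = _
    rw [← IsScalarTower.algebraMap_apply T N L]
    exact E.symm.commutes c
  · show PowerSeries.constantCoeff (E.symm (algebraMap N L z)) = 0 ↔ _
    rw [← IsLocalization.AtPrime.to_map_mem_maximal_iff L m z, hπ.maximalIdeal_eq, Ideal.mem_span_singleton,
      ← PowerSeries.X_dvd_iff, ← map_dvd_iff E, E.apply_symm_apply, hE]

/-- A complete reduced curve singularity with `δ = r - 1` is the multicross ring. -/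
theorem exists_cross (k : Type u) [Field k] [IsSepClosed k] (T : Type u) [CommRing T] [IsLocalRing T]
    [IsNoetherianRing T] [IsAdicComplete (maximalIdeal T) T] [Algebra k T] [_root_.IsReduced T]
    (hdim : ringKrullDim T = 1) (hres : Function.Bijective (algebraMap k (ResidueField T)))
    (n : ℕ) (hn : Brnch.numBranches T = n) (hδ : Curv2.deltaInv T + 1 = n) :
    ∃ φ : T →+* (Fin n → PowerSeries k), Function.Injective φ ∧
      (∀ c : k, φ (algebraMap k T c) = fun _ => algebraMap k (PowerSeries k) c) ∧
      Set.range φ = {f : Fin n → PowerSeries k | ∀ i j : Fin n,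
        PowerSeries.constantCoeff (f i) = PowerSeries.constantCoeff (f j)} := by
  classical
  have hN : CAlg.IsNagata T := CompleteNagata.isNagata_of_complete T
  haveI : HenselianLocalRing T :=
    { is_henselian := fun f hf a₀ h₁ h₂ =>
        (IsAdicComplete.henselianRing T (maximalIdeal T)).is_henselian f hf a₀ h₁ (h₂.map _) }
  haveI : IsSepClosed (ResidueField T) := isSepClosed_of_ringEquiv (RingEquiv.ofBijective _ hres)
  let N := integralClosure T (FractionRing T)
  obtain ⟨e₀⟩ := S12463.exists_algEquiv_normRed T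
  let Φ : MaximalSpectrum N ≃ MaximalSpectrum (CAlg2.normRed T) :=
    { toFun := fun m => ⟨m.asIdeal.comap e₀.symm.toRingEquiv,
        haveI := m.isMaximal; Ideal.comap_isMaximal_of_surjective _ e₀.symm.surjective⟩
      invFun := fun m => ⟨m.asIdeal.comap e₀.toRingEquiv,
        haveI := m.isMaximal; Ideal.comap_isMaximal_of_surjective _ e₀.surjective⟩
      left_inv := fun m => MaximalSpectrum.ext (by
        ext z; exact iff_of_eq (congrArg (· ∈ m.asIdeal) (e₀.symm_apply_apply z)))
      right_inv := fun m => MaximalSpectrum.ext (by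
        ext z; exact iff_of_eq (congrArg (· ∈ m.asIdeal) (e₀.apply_symm_apply z))) }
  rw [Brnch.numBranches, if_pos (minimalPrimes.finite_of_isNoetherianRing T)] at hn
  have hgeom : Brnch.numGeomBranches T = n := by
    rw [Brnch.numGeomBranches, if_pos (minimalPrimes.finite_of_isNoetherianRing T), ← hn]
    have hU : ∀ m : MaximalSpectrum (CAlg2.normRed T), Unique (Brnch.Emb T m) := fun m => by
      have h1 := S12463.card_emb_eq_one T m
      haveI : Subsingleton (Brnch.Emb T m) := (ENat.card_le_one_iff_subsingleton _).1 h1.le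
      haveI : Nonempty (Brnch.Emb T m) := by
        by_contra hh
        rw [not_nonempty_iff] at hh
        rw [(ENat.card_eq_zero_iff_empty _).2 hh] at h1
        exact zero_ne_one h1
      exact uniqueOfSubsingleton (Classical.arbitrary _)
    haveI := hU
    exact ENat.card_congr (Equiv.sigmaUnique _ _)
  obtain ⟨hwedge, hmem⟩ := S12463.result T hN hdim (hgeom.symm ▸ hδ)
  haveI : Module.Finite T N := (S7652.result T hN hdim).1
  haveI : Finite (MaximalSpectrum (CAlg2.normRed T)) := by
    by_contra hinf
    rw [not_finite_iff_infinite] at hinf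
    rw [ENat.card_eq_top_of_infinite] at hn
    exact ENat.natCast_ne_top n hn.symm
  haveI := Fintype.ofFinite (MaximalSpectrum (CAlg2.normRed T))
  let σ : Fin n ≃ MaximalSpectrum N :=
    ((Fintype.equivFinOfCardEq (by
      rw [ENat.card_eq_coe_fintype_card] at hn; exact_mod_cast hn)).symm).trans Φ.symm
  have hcomap : ∀ i, (σ i).asIdeal.comap (algebraMap T N) = maximalIdeal T := fun i => by
    haveI := (σ i).isMaximal
    exact IsLocalRing.eq_maximalIdeal (Ideal.isMaximal_comap_of_isIntegral_of_isMaximal (σ i).asIdeal)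
  obtain ⟨ι, _, B, _, hB, ⟨eP⟩⟩ := S0499.result T N
  choose ε hε hεm hε' using fun i => haveI := (σ i).isMaximal; exists_idem hB eP (σ i).asIdeal
  obtain ⟨u, hum, hu⟩ := DeltaLib.exists_nzd_mem (A := T) hdim
  have hinjT : Function.Injective (algebraMap T N) := fun a b h =>
    IsFractionRing.injective T (FractionRing T) (congrArg Subtype.val h : _)
  have hψex : ∀ i, ∃ ψ : N →+* PowerSeries k, Function.Surjective ψ ∧
      (∀ z, ψ z = 0 → ∃ c ∉ (σ i).asIdeal, c * z = 0) ∧
      (∀ c : k, ψ (algebraMap T N (algebraMap k T c)) = PowerSeries.C c) ∧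
      (∀ z, PowerSeries.constantCoeff (ψ z) = 0 ↔ z ∈ (σ i).asIdeal) := fun i => by
    haveI := (σ i).isMaximal
    refine exists_psMap k hres.2 (σ i).asIdeal (hcomap i) (hwedge (σ i)).1 (hwedge (σ i)).2 u hum
      (fun h0 => ?_) (ε i) (hε i) (hεm i) (hε' i)
    obtain ⟨⟨c, hc⟩, hc0⟩ := (IsLocalization.map_eq_zero_iff (σ i).asIdeal.primeCompl _ _).1 h0
    have h7 : (c : FractionRing T) * algebraMap T (FractionRing T) u = 0 := congrArg Subtype.val hc0
    have h8 := (IsLocalization.map_units (FractionRing T) (⟨u, hu⟩ : nonZeroDivisors T)).mul_left_eq_zero.1 h7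
    exact hc ((Subtype.ext h8 : c = 0) ▸ (σ i).asIdeal.zero_mem)
  choose ψ hψs hψ0 hψC hψm using hψex
  have hidem : ∀ x : PowerSeries k, x * x = x → x = 0 ∨ x = 1 := fun x hx => IsIdempotentElem.iff_eq_zero_or_one.1 hx
  have hψε : ∀ i j, ψ i (ε j) = if i = j then 1 else 0 := fun i j => by
    rcases hidem (ψ i (ε j)) (by rw [← map_mul, hε]) with h | h
    · rw [h]
      split_ifs with hij
      · subst hij
        exact absurd ((hψm i _).1 (by rw [h, map_zero])) (hεm i)
      · rfl
    · rw [h]
      split_ifs with hij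
      · rfl
      · have h' := (hψm i (ε j)).2 (hε' j _ (σ i).isMaximal fun hh =>
          hij (σ.injective (MaximalSpectrum.ext hh)))
        rw [h, map_one] at h'
        exact absurd h' one_ne_zero
  have hNinj : ∀ z : N, (∀ i, ψ i z = 0) → z = 0 := fun z hz => by
    by_contra hne
    have htop : (⊤ : Ideal N) ≠ Submodule.annihilator (Submodule.span N {z}) := fun h => hne (by
      have h5 : (1 : N) ∈ Submodule.annihilator (Submodule.span N {z}) := h ▸ Submodule.mem_top
      rw [Submodule.mem_annihilator_span_singleton, one_smul] at h5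
      exact h5)
    obtain ⟨m', hm', hle⟩ := Ideal.exists_le_maximal _ htop.symm
    obtain ⟨i, hi⟩ := σ.surjective ⟨m', hm'⟩
    obtain ⟨c, hc, hcz⟩ := hψ0 i z (hz i)
    refine hc ?_
    rw [hi]
    exact hle ((Submodule.mem_annihilator_span_singleton _ _).2 hcz)
  have hNsurj : ∀ g : Fin n → PowerSeries k, ∃ z : N, ∀ i, ψ i z = g i := fun g => by
    choose v hv using fun i => hψs i (g i)
    refine ⟨∑ j, ε j * v j, fun i => ?_⟩
    rw [map_sum, Finset.sum_eq_single i]
    · rw [map_mul, hψε, if_pos rfl, one_mul, hv]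
    · intro j _ hj
      rw [map_mul, hψε, if_neg (Ne.symm hj), zero_mul]
    · intro h; exact absurd (Finset.mem_univ i) h
  refine ⟨(RingHom.pi ψ).comp (algebraMap T N), ?_, fun c => funext fun i => hψC i c, ?_⟩
  · rw [injective_iff_map_eq_zero]
    intro a ha
    exact hinjT ((hNinj _ fun i => congrFun ha i).trans (map_zero _).symm)
  · ext g
    constructor
    · rintro ⟨a, rfl⟩ i j
      obtain ⟨c, hc⟩ := hres.2 (residue T a)
      have key : ∀ l, PowerSeries.constantCoeff (ψ l (algebraMap T N a)) = c := fun l => by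
        have h6 : algebraMap T N (a - algebraMap k T c) ∈ (σ l).asIdeal :=
          (hcomap l).symm.le (Ideal.Quotient.eq.1 hc.symm)
        have h7 := (hψm l _).2 h6
        rw [map_sub, map_sub, hψC, map_sub, PowerSeries.constantCoeff_C, sub_eq_zero] at h7
        exact h7
      exact (key i).trans (key j).symm
    · intro hg
      obtain ⟨z, hz⟩ := hNsurj g
      haveI : Nonempty (MaximalSpectrum N) := by
        haveI : Nontrivial N := hinjT.nontrivial
        obtain ⟨m', hm'⟩ := Ideal.exists_maximal N
        exact ⟨⟨m', hm'⟩⟩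
      obtain ⟨m₀⟩ := (inferInstance : Nonempty (MaximalSpectrum N))
      let c := PowerSeries.constantCoeff (g (σ.symm m₀))
      obtain ⟨a, ha⟩ := hmem z ⟨algebraMap k T c, fun m' => by
        obtain ⟨i, rfl⟩ := σ.surjective m'
        rw [← hψm i, map_sub, hψC, map_sub, PowerSeries.constantCoeff_C, hz, sub_eq_zero]
        exact hg _ _⟩
      exact ⟨a, funext fun i => show ψ i (algebraMap T N a) = g i by rw [ha, hz]⟩

/-- The completion of a curve singularity with `δ = r - 1`. -/
theorem exists_cross_completion (k : Type u) [Field k] [IsSepClosed k] (A : Type u) [CommRing A] [IsLocalRing A]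
    [Algebra k A] [_root_.IsReduced A] (hdim : ringKrullDim A = 1) (hN : CAlg.IsNagata A)
    (hres : Function.Bijective (algebraMap k (ResidueField A))) (n : ℕ)
    (hn : Brnch.numBranches A = n) (hδ : Curv2.deltaInv A + 1 = n) :
    ∃ φ : AdicCompletion (maximalIdeal A) A →+* (Fin n → PowerSeries k),
      Function.Injective φ ∧
      (∀ c : k, φ (algebraMap A (AdicCompletion (maximalIdeal A) A) (algebraMap k A c)) =
        fun _ => algebraMap k (PowerSeries k) c) ∧
      Set.range φ = {f : Fin n → PowerSeries k | ∀ i j : Fin n,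
        PowerSeries.constantCoeff (f i) = PowerSeries.constantCoeff (f j)} := by
  haveI : IsNoetherianRing A := hN.1
  let T := AdicCompletion (maximalIdeal A) A
  haveI : IsNoetherianRing T := FormalFib6.isNoetherianRing_adicCompletion A _
  haveI : IsAdicComplete (maximalIdeal T) T := by
    rw [AdicCompletion.maximalIdeal_eq_map]
    exact Adic7.isAdicComplete_completion _ (IsNoetherian.noetherian _)
  haveI : _root_.IsReduced T := by
    have h := S2647.result A hN.2 A
    rwa [IsLocalRing.jacobson_eq_maximalIdeal _ bot_ne_top] at h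
  letI : Algebra k T := ((algebraMap A T).comp (algebraMap k A)).toAlgebra
  have hresT : Function.Bijective (algebraMap k (ResidueField T)) := by
    refine ⟨(algebraMap k (ResidueField T)).injective, fun z => ?_⟩
    obtain ⟨w, hw⟩ := (AdicCompletion.residueField_map_bijective A).2 z
    obtain ⟨a, rfl⟩ := residue_surjective w
    obtain ⟨c, hc⟩ := hres.2 (residue A a)
    refine ⟨c, ?_⟩
    rw [← hw, ← hc]
    exact (ResidueField.map_residue (algebraMap A T) (algebraMap k A c)).symm
  obtain ⟨φ, h1, h2, h3⟩ := exists_cross k T ((CILib.ringKrullDim_adicCompletion A).trans hdim) hresT n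
    ((S9241.result A hdim).1.trans hn) (by rw [(S7654.result A hN hdim).2.2]; exact hδ)
  exact ⟨φ, h1, h2, h3⟩

end Groth.Agent.MultiCross
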